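import Cfsg.Agent.H509.Weak
import Cfsg.Agent.H32.S4095.DZ
import Cfsg.Agent.H894.J4Two
import Cfsg.Agent.H860.PartFiveSeven
import Cfsg.Agent.H859.ClassEleven
import Cfsg.Agent.H859.CentC
import Cfsg.Agent.H337.JankoOfIso
import Cfsg.Agent.H856.AutM22
import Cfsg.Agent.H419.Row
import Cfsg.Agent.S5564
import Cfsg.Agent.S5565
import Cfsg.Agent.S2068
import Cfsg.Agent.S1703

/-!
# S4095 at the prime 2: the row of `J4` (helper32)

A bad automorphism is `conj x`. If `x` has even order, the character of 2-defect zero (helper894) excludes it. If `x` has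
odd order, `|C(x)| ≥ 11 ^ 3`, so the order of `x` is a product of powers of 3 and 5 (or there is an element `w` of order
11 with `O_2(C(w)) = 1` in `⟨x⟩`), then it is 3 or 5, and `x` is real.
-/

set_option autoImplicit false
set_option linter.unusedSectionVars false

namespace Cfsg.Agent.H32.S4095.J4

open Subgroup Cfsg Cfsg.Agent.H516 Cfsg.Agent.H509.Weak Cfsg.Agent.H859
open Cfsg.Agent.Characters.Core
open Cfsg.Agent.H858 (Abs.exists_conj_prime Abs.map_centralizer_equiv Abs.card_map_equiv)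

universe u

theorem finJ4 : Finite Spor.J4 := Cfsg.Agent.H858.VK.finite_J4

attribute [local instance] finJ4

theorem card_J4 : Nat.card Spor.J4 = 86775571046077562880 := Cfsg.Agent.S1703.result.2

theorem simple : IsSimpleGroup Spor.J4 := Cfsg.Agent.S1703.result.1

/-! ### centralizers of elements of prime order -/

theorem cent_le {G : Type*} [Group G] {x w : G} (hw : w ∈ zpowers x) :
    centralizer ({x} : Set G) ≤ centralizer ({w} : Set G) := by
  intro g hg
  rw [mem_centralizer_singleton_iff] at hg ⊢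
  obtain ⟨i, rfl⟩ := hw
  exact ((show Commute g x from hg).zpow_right i).eq

theorem cent_of_sub {p n : ℕ} (h : ∀ P : Subgroup Spor.J4, Nat.card P = p →
    Nat.card (centralizer (P : Set Spor.J4)) = n) {w : Spor.J4} (hw : orderOf w = p) :
    Nat.card (centralizer ({w} : Set Spor.J4)) = n := by
  rw [← Cfsg.Agent.SmallSimple.SelfCentPrime.centralizer_zpowers]
  exact h _ (by rw [Nat.card_zpowers, hw])

theorem cent_of_conj {p n : ℕ} (hp : p.Prime) (hpp : ¬ p * p ∣ 86775571046077562880) {P₀ : Subgroup Spor.J4}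
    (hP₀ : Nat.card P₀ = p) (h : Nat.card (centralizer (P₀ : Set Spor.J4)) = n) {w : Spor.J4} (hw : orderOf w = p) :
    Nat.card (centralizer ({w} : Set Spor.J4)) = n := by
  have : Fact p.Prime := ⟨hp⟩
  refine cent_of_sub (p := p) (fun P hP => ?_) hw
  obtain ⟨g, hg⟩ := Abs.exists_conj_prime hP₀ hP (by rw [card_J4]; exact hpp)
  rw [← hg, ← Abs.map_centralizer_equiv (MulAut.conj g) P₀, Abs.card_map_equiv]
  exact h

theorem cent5 {w : Spor.J4} (hw : orderOf w = 5) : Nat.card (centralizer ({w} : Set Spor.J4)) = 6720 :=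
  cent_of_conj (by norm_num) (by norm_num) Cfsg.Agent.H858.Loc5.card_F5 Cfsg.Agent.H858.Loc5.card_C hw

theorem cent7 {w : Spor.J4} (hw : orderOf w = 7) : Nat.card (centralizer ({w} : Set Spor.J4)) = 840 :=
  cent_of_conj (by norm_num) (by norm_num) Cfsg.Agent.H858.Norm57.card_S7 Cfsg.Agent.H858.Loc7.card_C hw

/-- `O_2(C(c)) = 1` -/
theorem pCore_D : pCore 2 ↥(centralizer ({NU.c} : Set Spor.J4)) = ⊥ := by
  have : Fact (Nat.Prime 2) := ⟨Nat.prime_two⟩
  have : Fact (Nat.Prime 11) := ⟨by norm_num⟩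
  set R := (pCore 2 ↥(centralizer ({NU.c} : Set Spor.J4))).map (centralizer ({NU.c} : Set Spor.J4)).subtype with hR
  have hR2 : IsPGroup 2 R := (Cfsg.Agent.Lib.Cores.pCore_isPGroup 2).map _
  have hRD : R ≤ centralizer ({NU.c} : Set Spor.J4) := map_subtype_le _
  have hdis : R ⊓ NU.U = ⊥ :=
    disjoint_iff.1 (IsPGroup.disjoint_of_ne 2 11 (by norm_num) R NU.U hR2 SylEleven.isPGroup_U)
  have hn : ∀ r ∈ R, ∀ g ∈ centralizer ({NU.c} : Set Spor.J4), g * r * g⁻¹ ∈ R := by
    rintro _ ⟨r, hr, rfl⟩ g hg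
    exact ⟨⟨g, hg⟩ * r * ⟨g, hg⟩⁻¹, (Cfsg.Agent.Lib.Cores.pCore_normal 2).conj_mem r hr ⟨g, hg⟩, rfl⟩
  have h1 : R ≤ centralizer (NU.U : Set Spor.J4) := by
    intro r hr
    rw [mem_centralizer_iff]
    intro v hv
    have h2 : v * r * v⁻¹ * r⁻¹ ∈ R ⊓ NU.U := by
      refine ⟨Subgroup.mul_mem R (hn r hr v (CentC.U_le_D hv)) (Subgroup.inv_mem R hr), ?_⟩
      have h3 : r ∈ SylEleven.N := CentC.D_le (hRD hr)
      have h4 : r * v⁻¹ * r⁻¹ ∈ NU.U := (mem_normalizer_iff.1 h3 v⁻¹).1 (Subgroup.inv_mem NU.U hv)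
      have h5 : v * r * v⁻¹ * r⁻¹ = v * (r * v⁻¹ * r⁻¹) := by group
      rw [h5]
      exact Subgroup.mul_mem NU.U hv h4
    rw [hdis, mem_bot] at h2
    have h3 : v * r * v⁻¹ = r := mul_inv_eq_one.1 h2
    exact mul_inv_eq_iff_eq_mul.1 h3
  have h2 : R = ⊥ := by
    rw [eq_bot_iff, ← hdis]
    exact le_inf le_rfl (h1.trans CentC.centralizer_U_le)
  rw [hR] at h2
  exact (map_eq_bot_iff_of_injective _ (subtype_injective _)).1 h2

/-- elements of order 11 -/
theorem cent11 {w : Spor.J4} (hw : orderOf w = 11) :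
    pCore 2 ↥(centralizer ({w} : Set Spor.J4)) = ⊥ ∨ Nat.card (centralizer ({w} : Set Spor.J4)) = 242 := by
  rcases ClassEleven.isConj_or hw with h | h
  · right
    rw [ClassEleven.card_centralizer_conj h]
    exact SylEleven.card_centralizer_x_eq
  · left
    obtain ⟨g, hg⟩ := isConj_iff.1 (isConj_comm.1 h)
    rw [← hg]
    exact pCore_equiv (centEquiv (MulAut.conj g) NU.c) pCore_D

theorem perm_five {g : Equiv.Perm (Fin 5)} (hg : 5 ∣ orderOf g) : orderOf g = 5 := by
  obtain ⟨i, hi⟩ := Cfsg.Agent.H860.SFive.exists_ms g.cycleType (by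
    have := g.sum_cycleType_le
    rwa [Fintype.card_fin] at this) (fun a ha => Equiv.Perm.two_le_of_mem_cycleType ha)
  rw [← Equiv.Perm.lcm_cycleType, hi] at hg ⊢
  have h : ∀ i, 5 ∣ (Cfsg.Agent.H860.SFive.ms i).lcm → (Cfsg.Agent.H860.SFive.ms i).lcm = 5 := by decide
  exact h i hg

/-- an element of order divisible by 5 commuting with an element of order 7 -/
theorem order_five {x v : Spor.J4} (hv : orderOf v = 7) (hc : x * v = v * x) (h7 : ¬ 7 ∣ orderOf x) (h5 : 5 ∣ orderOf x) :
    orderOf x = 5 := by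
  have : Fact (Nat.Prime 7) := ⟨by norm_num⟩
  obtain ⟨g, hg⟩ := Abs.exists_conj_prime (p := 7) (P := zpowers v) (by rw [Nat.card_zpowers, hv])
    Cfsg.Agent.H858.Norm57.card_S7 (by rw [card_J4]; norm_num)
  have hxC : x ∈ centralizer ((zpowers v : Subgroup Spor.J4) : Set Spor.J4) := by
    rw [Cfsg.Agent.SmallSimple.SelfCentPrime.centralizer_zpowers, mem_centralizer_singleton_iff]
    exact hc
  have hy : MulAut.conj g x ∈ centralizer (Cfsg.Agent.H858.Norm57.S7 : Set Spor.J4) := by
    rw [← hg, ← Abs.map_centralizer_equiv (MulAut.conj g) (zpowers v)]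
    exact ⟨x, hxC, rfl⟩
  have ho : orderOf (MulAut.conj g x) = orderOf x := MulEquiv.orderOf_eq _ _
  rw [← ho] at h7 h5 ⊢
  generalize MulAut.conj g x = y at hy h7 h5
  have hd := Cfsg.Agent.H858.Loc7.directProduct
  obtain ⟨s, hs, i, hi, rfl⟩ := Cfsg.Agent.H860.CountDirect.exists_mul hd hy
  have hcom : Commute s i := hd.2.2.1 s hs i hi
  have h1 : s ^ orderOf (s * i) = 1 := by
    have h2 : s ^ orderOf (s * i) * i ^ orderOf (s * i) = 1 := by
      rw [← hcom.mul_pow, pow_orderOf_eq_one]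
    have h3 : s ^ orderOf (s * i) ∈ Cfsg.Agent.H858.Norm57.S7 ⊓ Cfsg.Agent.H858.Loc7.I0 := by
      refine ⟨pow_mem hs _, ?_⟩
      rw [eq_inv_of_mul_eq_one_left h2]
      exact Subgroup.inv_mem _ (pow_mem hi _)
    rw [hd.2.2.2.1, mem_bot] at h3
    exact h3
  have hs7 : orderOf s ∣ 7 := by
    have h2 := orderOf_dvd_natCard (⟨s, hs⟩ : Cfsg.Agent.H858.Norm57.S7)
    rwa [orderOf_mk, Cfsg.Agent.H858.Norm57.card_S7] at h2
  have hs1 : s = 1 := by
    rcases (Nat.dvd_prime (by norm_num)).1 hs7 with h2 | h2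
    · exact orderOf_eq_one_iff.1 h2
    · exfalso
      apply h7
      rw [← h2]
      exact orderOf_dvd_of_pow_eq_one h1
  subst hs1
  rw [one_mul] at h5 ⊢
  obtain ⟨e⟩ := Cfsg.Agent.H858.Loc7.equiv_I0
  have h2 : orderOf (e ⟨i, hi⟩) = orderOf i := by rw [MulEquiv.orderOf_eq, orderOf_mk]
  rw [← h2] at h5 ⊢
  exact perm_five h5

/-- elements of order 5 are real -/
theorem real5 {x : Spor.J4} (hx : orderOf x = 5) : IsConj x x⁻¹ :=
  Cfsg.Agent.H860.CountDirect.isConj_of_nc_one Cfsg.Agent.H860.PartFiveSeven.nc_five_eq hx (by rw [orderOf_inv, hx])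

theorem nonab : ¬ IsMulCommutative Spor.J4 := by
  intro hm
  have h1 := Cfsg.Agent.H859.Heis.not_comm NU.rel
  exact h1 (hm.1.1 _ _)

theorem card_cent_z {z : Spor.J4} (h : IsOfJankoFourTypeAt z) :
    Nat.card (centralizer ({z} : Set Spor.J4)) = 21799895040 := by
  obtain ⟨P, -, -, hQ, -, ⟨N, -, hNC, -, hN, ⟨hn, ⟨e⟩⟩, -⟩, -⟩ := h
  rw [card_eq_card_quotient_mul_card_subgroup (N.subgroupOf (centralizer ({z} : Set Spor.J4))),
    Nat.card_congr e.toEquiv, Nat.card_congr (subgroupOfEquivOfLe hNC).toEquiv, hN, hQ,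
    Cfsg.Agent.H856.AutM22.card_aut]
  norm_num

/-- 3-elements are real -/
theorem real3 {x : Spor.J4} {k : ℕ} (hk : orderOf x = 3 ^ k) (hx1 : x ≠ 1) : IsConj x x⁻¹ := by
  have hsim : IsSimpleGroup Spor.J4 := simple
  have h3 : Fact (Nat.Prime 3) := ⟨Nat.prime_three⟩
  have hJ : IsOfJankoFourType Spor.J4 := H337.isOfJankoFourType_of_isoJ4 ⟨MulEquiv.refl _⟩
  obtain ⟨z, hz⟩ := id hJ
  -- a Sylow 3-subgroup in `C(z)`
  obtain ⟨T⟩ : Nonempty (Sylow 3 ↥(centralizer ({z} : Set Spor.J4))) := inferInstance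
  have hT : Nat.card (T : Subgroup ↥(centralizer ({z} : Set Spor.J4))) = 27 := by
    rw [Sylow.card_eq_multiplicity, card_cent_z hz]
    rw [show (21799895040 : ℕ).factorization 3 = 3 from
      Cfsg.Agent.H419.Row.factorization_eq Nat.prime_three (m := 807403520) (by norm_num) (by norm_num)]
    norm_num
  set R₀ := (T : Subgroup ↥(centralizer ({z} : Set Spor.J4))).map (centralizer ({z} : Set Spor.J4)).subtype with hR₀
  have hR₀c : Nat.card R₀ = 27 := by rw [hR₀, card_map_of_injective (subtype_injective _), hT]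
  have hR₀p : IsPGroup 3 R₀ := T.2.map _
  obtain ⟨R, hR⟩ := hR₀p.exists_le_sylow
  have hRc : Nat.card (R : Subgroup Spor.J4) = 27 := by
    rw [Sylow.card_eq_multiplicity, card_J4, show (86775571046077562880 : ℕ).factorization 3 = 3 from
      Cfsg.Agent.H419.Row.factorization_eq Nat.prime_three (m := 3213910038743613440) (by norm_num) (by norm_num)]
    norm_num
  have hRe : R₀ = (R : Subgroup Spor.J4) := eq_of_le_of_card_ge hR (by rw [hR₀c, hRc])
  obtain ⟨-, -, hexp, -⟩ := Cfsg.Agent.S5565.result nonab z hz R (by rw [← hRe]; exact map_subtype_le _)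
  have hxp : IsPGroup 3 (zpowers x) := IsPGroup.of_card (n := k) (by rw [Nat.card_zpowers, hk])
  obtain ⟨R', hR'⟩ := hxp.exists_le_sylow
  obtain ⟨g, hg⟩ := MulAction.exists_smul_eq Spor.J4 R' R
  have h1 : g * x * g⁻¹ ∈ (R : Subgroup Spor.J4) := by
    rw [← hg, Sylow.coe_subgroup_smul, Subgroup.mem_pointwise_smul_iff_inv_smul_mem]
    have h2 : (MulAut.conj g)⁻¹ • (g * x * g⁻¹) = x := by
      rw [← map_inv]
      show g⁻¹ * (g * x * g⁻¹) * g⁻¹⁻¹ = x
      group
    rw [h2]
    exact hR' (mem_zpowers x)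
  have h2 := Monoid.pow_exponent_eq_one (⟨g * x * g⁻¹, h1⟩ : (R : Subgroup Spor.J4))
  rw [hexp] at h2
  have h4 : x ^ 3 = 1 := by
    have h5 : (g * x * g⁻¹) ^ 3 = 1 := congrArg Subtype.val h2
    rw [conj_pow] at h5
    have h6 : x ^ 3 = g⁻¹ * (g * x ^ 3 * g⁻¹) * g := by group
    rw [h6, h5]
    group
  have h5 : orderOf x = 3 := orderOf_eq_prime h4 hx1
  exact Cfsg.Agent.S5564.result nonab hJ x x⁻¹ h5 (by rw [orderOf_inv, h5])

/-- **Bad elements of odd order with a large centralizer.** -/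
theorem false_of_odd {x : Spor.J4} (hx1 : x ≠ 1) (hodd : Odd (orderOf x)) (hb : BadE 2 x)
    (hbig : 1331 ≤ Nat.card (centralizer ({x} : Set Spor.J4)))
    (hO : ∀ w ∈ zpowers x, orderOf w = 11 → pCore 2 ↥(centralizer ({w} : Set Spor.J4)) = ⊥ → False) : False := by
  have key : ∀ w ∈ zpowers x, 1331 ≤ Nat.card (centralizer ({w} : Set Spor.J4)) := fun w hw =>
    hbig.trans (Nat.card_le_card_of_injective _ (inclusion_injective (cent_le hw)))
  have hpow : ∀ q : ℕ, q ∣ orderOf x → ∃ w ∈ zpowers x, orderOf w = q := by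
    intro q hq
    obtain ⟨m, hm⟩ := hq
    refine ⟨x ^ m, pow_mem (mem_zpowers x) m, ?_⟩
    have hm0 : m ≠ 0 := by
      rintro rfl
      rw [mul_zero] at hm
      exact (orderOf_pos x).ne' hm
    rw [orderOf_pow_of_dvd hm0 (hm ▸ dvd_mul_left _ _), hm, Nat.mul_div_cancel _ (Nat.pos_of_ne_zero hm0)]
  have big : ∀ q n : ℕ, n < 1331 → (∀ w : Spor.J4, orderOf w = q → Nat.card (centralizer ({w} : Set Spor.J4)) = n) →
      ¬ q ∣ orderOf x := by
    intro q n hn h hq
    obtain ⟨w, hw, ho⟩ := hpow q hq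
    have h1 := key w hw
    rw [h w ho] at h1
    omega
  have h7 : ¬ 7 ∣ orderOf x := big 7 840 (by norm_num) fun w => cent7
  have h23 : ¬ 23 ∣ orderOf x := big 23 23 (by norm_num) fun w => cent_of_sub fun P hP => (BigNum.data23 hP).1
  have h29 : ¬ 29 ∣ orderOf x := big 29 29 (by norm_num) fun w => cent_of_sub fun P hP => (BigNum.data29' hP).1
  have h31 : ¬ 31 ∣ orderOf x := big 31 31 (by norm_num) fun w => cent_of_sub fun P hP => (BigNum.data31 hP).1
  have h37 : ¬ 37 ∣ orderOf x := big 37 37 (by norm_num) fun w => cent_of_sub fun P hP => (BigNum.data37 hP).1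
  have h43 : ¬ 43 ∣ orderOf x := big 43 43 (by norm_num) fun w => cent_of_sub fun P hP => (BigNum.data43 hP).1
  have h11' : ¬ 11 ∣ orderOf x := by
    intro h
    obtain ⟨w, hw, ho⟩ := hpow 11 h
    rcases cent11 ho with h1 | h1
    · exact hO w hw ho h1
    · have h2 := key w hw
      omega
  have h2 : ¬ 2 ∣ orderOf x := fun h => (Nat.not_even_iff_odd.2 hodd) (even_iff_two_dvd.2 h)
  by_cases h5 : 5 ∣ orderOf x
  · -- an element of order 7 in `C(x)`
    obtain ⟨w, hw, ho⟩ := hpow 5 h5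
    have h8 : Nat.card (centralizer ({x} : Set Spor.J4)) ∣ 6720 := by
      rw [← cent5 ho]
      exact card_dvd_of_le (cent_le hw)
    have h9 : 7 ∣ Nat.card (centralizer ({x} : Set Spor.J4)) := by
      by_contra h9
      have h10 : Nat.card (centralizer ({x} : Set Spor.J4)) ∣ 960 := by
        have h11 : Nat.Coprime (Nat.card (centralizer ({x} : Set Spor.J4))) 7 :=
          ((Nat.Prime.coprime_iff_not_dvd (by norm_num)).2 h9).symm
        exact h11.dvd_of_dvd_mul_right (m := 960) (by norm_num; exact h8)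
      have := Nat.le_of_dvd (by norm_num) h10
      omega
    have : Fact (Nat.Prime 7) := ⟨by norm_num⟩
    obtain ⟨v, hv⟩ := exists_prime_orderOf_dvd_card' 7 h9
    have hv' : orderOf (v : Spor.J4) = 7 := by rw [Subgroup.orderOf_coe, hv]
    have h12 := order_five hv' (mem_centralizer_singleton_iff.1 v.2).symm h7 h5
    exact false_of_real hx1 hodd (real5 h12) hb
  · have h8 : ∃ k, orderOf x = 3 ^ k := by
      have h9 : orderOf x ∣ 86775571046077562880 := card_J4 ▸ orderOf_dvd_natCard x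
      have h10 : ∀ q : ℕ, q.Prime → q ∣ orderOf x → q = 3 := by
        intro q hq hqx
        have h11 : q ∣ 2 ^ 21 * 3 ^ 3 * 5 * 7 * 11 ^ 3 * 23 * 29 * 31 * 37 * 43 := by
          refine (hqx.trans h9).trans ?_
          norm_num
        have hpd : ∀ a b : ℕ, b.Prime → ¬ b ∣ orderOf x → q ∣ b ^ a → False := by
          intro a b hb hbx h12
          have h13 := (Nat.prime_dvd_prime_iff_eq hq hb).1 (hq.dvd_of_dvd_pow h12)
          exact hbx (h13 ▸ hqx)
        rcases (hq.dvd_mul).1 h11 with h12 | h12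
        · rcases (hq.dvd_mul).1 h12 with h12 | h12
          · rcases (hq.dvd_mul).1 h12 with h12 | h12
            · rcases (hq.dvd_mul).1 h12 with h12 | h12
              · rcases (hq.dvd_mul).1 h12 with h12 | h12
                · rcases (hq.dvd_mul).1 h12 with h12 | h12
                  · rcases (hq.dvd_mul).1 h12 with h12 | h12
                    · rcases (hq.dvd_mul).1 h12 with h12 | h12
                      · rcases (hq.dvd_mul).1 h12 with h12 | h12
                        · exact (hpd 21 2 (by norm_num) h2 h12).elim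
                        · exact (Nat.prime_dvd_prime_iff_eq hq Nat.prime_three).1 (hq.dvd_of_dvd_pow h12)
                      · exact (hpd 1 5 (by norm_num) h5 (by rwa [pow_one])).elim
                    · exact (hpd 1 7 (by norm_num) h7 (by rwa [pow_one])).elim
                  · exact (hpd 3 11 (by norm_num) h11' h12).elim
                · exact (hpd 1 23 (by norm_num) h23 (by rwa [pow_one])).elim
              · exact (hpd 1 29 (by norm_num) h29 (by rwa [pow_one])).elim
            · exact (hpd 1 31 (by norm_num) h31 (by rwa [pow_one])).elim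
          · exact (hpd 1 37 (by norm_num) h37 (by rwa [pow_one])).elim
        · exact (hpd 1 43 (by norm_num) h43 (by rwa [pow_one])).elim
      exact ⟨_, Nat.eq_prime_pow_of_unique_prime_dvd (orderOf_pos x).ne' (fun {q} hq hqx => h10 q hq hqx)⟩
    obtain ⟨k, hk⟩ := h8
    exact false_of_real hx1 hodd (real3 hk hx1) hb

/-- **The row of `J4` at the prime 2.** -/
theorem row {L : Type u} [Group L] [Finite L] (h : Cfsg.Spor.IsoJ4 L) (B : Cfsg.Agent.H509.Weak.Base L) :
    Cfsg.Agent.H516.Row 2 L := by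
  obtain ⟨e⟩ := h
  rw [row_iff]
  intro a ha
  by_contra hne
  have W : Wk a := { B with bad := ha, ne := hne }
  -- `a` is inner
  obtain ⟨x, rfl⟩ : ∃ x : L, a = MulAut.conj x := by
    obtain ⟨y, hy⟩ := Cfsg.Agent.H419.Row.inner_of_out Cfsg.Agent.S2068.result (MulAut.congr e a)
    refine ⟨e.symm y, ?_⟩
    apply (MulAut.congr e).injective
    rw [hy]
    ext s
    show y * s * y⁻¹ = e ((e.symm y) * e.symm s * (e.symm y)⁻¹)
    simp only [map_mul, map_inv, MulEquiv.apply_symm_apply]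
  have hbL : BadE 2 x := fun s => ha s
  have hb : BadE 2 (e x) := hbL.map e
  have hx1 : x ≠ 1 := by
    rintro rfl
    exact hne (map_one _)
  have hex1 : e x ≠ 1 := by
    intro h1
    exact hx1 ((MulEquiv.map_eq_one_iff e).1 h1)
  -- even order
  have hodd : Odd (orderOf (e x)) := by
    by_contra hcon
    rw [Nat.not_odd_iff_even] at hcon
    obtain ⟨χ, hχ⟩ := Cfsg.Agent.H894.J4Two.exists_degree
    exact false_of_dz (n := 21) Nat.prime_two (by rw [card_J4]; norm_num) (by rw [card_J4]; norm_num) χ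
      (by rw [hχ]; norm_num) hcon.two_dvd hb
  have hfix : fixedSubgroup (MulAut.conj x) = centralizer ({x} : Set L) := by
    ext s
    rw [mem_centralizer_singleton_iff]
    constructor
    · intro hs
      have h1 : x * s * x⁻¹ = s := hs
      exact (mul_inv_eq_iff_eq_mul.1 h1).symm
    · intro hs
      show x * s * x⁻¹ = s
      rw [← hs, mul_inv_cancel_right]
  have hmap : ∀ w : L, (centralizer ({w} : Set L)).map e.toMonoidHom = centralizer ({e w} : Set Spor.J4) := by
    intro w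
    have h1 := Abs.map_centralizer_equiv e (zpowers w)
    have h2 : (zpowers w).map e.toMonoidHom = zpowers (e w) := MonoidHom.map_zpowers _ _
    rwa [h2, Cfsg.Agent.SmallSimple.SelfCentPrime.centralizer_zpowers,
      Cfsg.Agent.SmallSimple.SelfCentPrime.centralizer_zpowers] at h1
  refine false_of_odd hex1 hodd hb ?_ ?_
  · -- the group `U` of order `11 ^ 3`
    have h1 : Nat.card (NU.U.map e.symm.toMonoidHom) = 1331 := by
      rw [Abs.card_map_equiv, NU.card_U]
      norm_num
    have h2 := W.card_le (Q := NU.U.map e.symm.toMonoidHom) (by rw [h1]; decide)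
    rw [h1, hfix, ← Abs.card_map_equiv e (centralizer ({x} : Set L)), hmap] at h2
    exact h2
  · intro w hw ho h1
    obtain ⟨i, rfl⟩ := hw
    beta_reduce at ho h1
    have h2 : orderOf (x ^ i) = 11 := by
      rw [← ho, ← map_zpow, MulEquiv.orderOf_eq]
    refine W.not_zpowers (w := x ^ i) (by rw [h2]; norm_num) (by rw [h2]; norm_num)
      ⟨i, (map_zpow _ _ _).symm⟩ ?_
    rw [← map_zpow, ← hmap] at h1
    exact pCore_equiv (e.subgroupMap (centralizer ({x ^ i} : Set L))).symm h1

end Cfsg.Agent.H32.S4095.J4
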